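import Cfsg.Agent.H106.MOwnPSU_m3
import Cfsg.Agent.H132.S5.Main
import Cfsg.Agent.H487.CC.PsuChar
import Cfsg.Agent.S0633
import Cfsg.Agent.H957.InvU5
import Cfsg.Agent.FastGrp
import Cfsg.Agent.Prune
set_option linter.all false
prune_inst 0x7f00000000000000000000000000000000000000000000000000000000000000000000000000000000000000000000000000000000000000000000000000000000000000000000000000000000000000003fffffffffffffffffffffffffffbeffbdffffffff
open scoped Cfsg.Agent.FastGrp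

-- part: H487/S5/PsuOwnA
section
/-!
# `PSU₃(q)`, `p ∣ q`, `p ≥ 5`: non-solvable pairs with an inner automorphism (helper487, for S2274)

Two nontrivial `p`-elements of `SU₃(q)` with different fixed isotropic lines generate a non-solvable group
(Hall--Higman theorem B).
-/

set_option autoImplicit false
set_option linter.unusedSectionVars false
set_option linter.unusedVariables false

namespace Cfsg.Agent.H487.S5U3

open Cfsg Matrix
open Cfsg.Agent.LieClassical.HermBasic Cfsg.Agent.LieClassical.HermSiegel Cfsg.Agent.LieClassical.HermGen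
open Cfsg.Agent.ClassicalGeometry.PSUAutBasic
open Cfsg.Agent.ClassicalGeometry.PSUAutSylow
open Cfsg.Agent.H358.U3 (smul_of_perp)
open Cfsg.Agent.H760.StrU3 (PP)
open Cfsg.Agent.H487.CCPsu3
open Cfsg.Agent.UGT.U2.FOne.PSU (Rep exists_rep)
open Cfsg.Agent.H132.S5

variable {F : Type*} [Field F] [Fintype F] {q p : ℕ} [hp : Fact p.Prime] [CharP F p]

/-- a `p`-subgroup of `SU₃(q)` fixes an isotropic vector -/
theorem exists_fix (hF : Fintype.card F = q ^ 2) (O : Subgroup (SU 3 F q)) (hO : IsPGroup p O) :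
    ∃ w : Fin 3 → F, w ≠ 0 ∧ hermForm 3 F q w w = 0 ∧ ∀ g ∈ O, act g w = w := by
  have hfin : Finite (PSU 3 F q) := Quotient.finite _
  obtain ⟨e, f, H⟩ := exists_frame (n := 3) hF (by omega)
  have he0 : e ≠ 0 := by
    rintro rfl
    have := H.ef
    rw [herm_zero_left] at this
    exact zero_ne_one this
  obtain ⟨S, hS⟩ := exists_sylow_PP (p := p) hF H
  obtain ⟨R, hR⟩ := (hO.map (pr 3 F q)).exists_le_sylow
  obtain ⟨g, hg⟩ := MulAction.exists_smul_eq (PSU 3 F q) S R
  obtain ⟨a, rfl⟩ := pr_surjective g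
  refine ⟨act a e, ?_, ?_, ?_⟩
  · intro h
    apply he0
    have := congrArg (act a⁻¹) h
    rwa [act_inv_act, act_zero] at this
  · rw [herm_act, H.ee]
  · intro o ho
    have h1 : pr 3 F q o ∈ (R : Subgroup (PSU 3 F q)) := hR ⟨o, ho, rfl⟩
    rw [← hg, Sylow.coe_subgroup_smul, Subgroup.mem_pointwise_smul_iff_inv_smul_mem, hS] at h1
    obtain ⟨u, hu, hu'⟩ := h1
    have h2 : pr 3 F q u = pr 3 F q (a⁻¹ * o * a) := by
      rw [hu']
      simp only [MulAut.smul_def, _root_.MulAut.inv_apply, _root_.MulAut.conj_symm_apply, _root_.map_mul, _root_.map_inv]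
    obtain ⟨k, hk⟩ := (isPGroup_siegG hF p H.ee) ⟨u, hu⟩
    obtain ⟨l, hl⟩ := hO ⟨o, ho⟩
    have hk' : u ^ p ^ k = 1 := congrArg Subtype.val hk
    have hl' : o ^ p ^ l = 1 := congrArg Subtype.val hl
    have h3 : (a⁻¹ * o * a) ^ p ^ l = 1 := by
      have := conj_pow (i := p ^ l) (a := a⁻¹) (b := o)
      rw [inv_inv] at this
      rw [this, hl']
      group
    have h4 : u = a⁻¹ * o * a := eq_of_pr_eq hF le_rfl hk' h3 h2
    obtain ⟨w, μ, h, hu2⟩ := hu
    have h5 : act u e = e := by rw [hu2, act_siegel_self]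
    have h6 : o = a * u * a⁻¹ := by rw [h4]; group
    rw [h6, act_mul, act_mul, act_inv_act, h5]

theorem eig_pow {y : SU 3 F q} {v : Fin 3 → F} {c : F} (h : act y v = c • v) (m : ℕ) :
    act (y ^ m) v = c ^ m • v := by
  induction m with
  | zero => rw [pow_zero, act_one, pow_zero, one_smul]
  | succ m ih => rw [pow_succ, act_mul, h, act_smul, ih, smul_smul, pow_succ, mul_comm]

/-- the eigenvalues of `p`-elements are `1` -/
theorem eig_one {y : SU 3 F q} {k : ℕ} (hy : y ^ p ^ k = 1) {v : Fin 3 → F} (hv : v ≠ 0) {c : F}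
    (h : act y v = c • v) : c = 1 := by
  have h1 := eig_pow h (p ^ k)
  rw [hy, act_one] at h1
  have h2 : (c ^ p ^ k - 1) • v = 0 := by rw [sub_smul, one_smul, ← h1, sub_self]
  have h3 : c ^ p ^ k - 1 = 0 := (smul_eq_zero.1 h2).resolve_right hv
  have h5 : (c - 1) ^ p ^ k = 0 := by rw [sub_pow_char_pow, one_pow, h3]
  exact sub_eq_zero.1 (eq_zero_of_pow_eq_zero h5)

/-- a nontrivial `p`-element fixes only one isotropic line -/
theorem unique_fix (hF : Fintype.card F = q ^ 2) {y : SU 3 F q} {k : ℕ} (hy : y ^ p ^ k = 1) (hy1 : y ≠ 1)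
    {w w' : Fin 3 → F} (hw0 : w ≠ 0) (hw0' : w' ≠ 0) (hw : hermForm 3 F q w w = 0)
    (hw' : hermForm 3 F q w' w' = 0) {c c' : F} (h : act y w = c • w) (h' : act y w' = c' • w') :
    ∃ d : F, w' = d • w := by
  by_contra hne
  apply hy1
  have hc := eig_one hy hw0 h
  have hc' := eig_one hy hw0' h'
  rw [hc, one_smul] at h
  rw [hc', one_smul] at h'
  have hb : hermForm 3 F q w' w ≠ 0 := herm_ne hF hw0 hw hw' hne
  have ha : hermForm 3 F q w w' ≠ 0 := fun h0 => hb (herm_eq_zero_swap hF h0)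
  have hli := linInd_of hw0 hne
  apply ext_act
  intro v
  rw [act_one]
  obtain ⟨α, hα⟩ : ∃ α, α = hermForm 3 F q v w' / hermForm 3 F q w w' := ⟨_, rfl⟩
  obtain ⟨β, hβ⟩ : ∃ β, β = hermForm 3 F q v w / hermForm 3 F q w' w := ⟨_, rfl⟩
  obtain ⟨t, ht⟩ : ∃ t, t = v - α • w - β • w' := ⟨_, rfl⟩
  have hv : v = t + α • w + β • w' := by rw [ht]; abel
  have htw : hermForm 3 F q t w = 0 := by
    rw [ht, herm_sub_left, herm_sub_left, herm_smul_left, herm_smul_left, hw, hβ, div_mul_cancel₀ _ hb]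
    ring
  have htw' : hermForm 3 F q t w' = 0 := by
    rw [ht, herm_sub_left, herm_sub_left, herm_smul_left, herm_smul_left, hw', hα, div_mul_cancel₀ _ ha]
    ring
  have hyt : act y t = t := by
    by_cases ht0 : t = 0
    · rw [ht0, act_zero]
    · have h1 : hermForm 3 F q (act y t) w = 0 := by
        rw [← h, herm_act, htw]
      have h2 : hermForm 3 F q (act y t) w' = 0 := by
        rw [← h', herm_act, htw']
      obtain ⟨c2, h3⟩ := line_of_perp hF hli ht0 htw htw' h1 h2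
      rw [h3, eig_one hy ht0 h3, one_smul]
  rw [hv, act_add, act_add, act_smul, act_smul, hyt, h, h']

/-- `SU` in `GL` -/
def toLE : SU 3 F q →* ((Fin 3 → F) ≃ₗ[F] (Fin 3 → F)) where
  toFun g :=
    { toFun := act g
      map_add' := act_add g
      map_smul' := fun c v => act_smul g c v
      invFun := act g⁻¹
      left_inv := fun v => act_inv_act g v
      right_inv := fun v => act_act_inv g v }
  map_one' := by
    ext1 v
    exact act_one v
  map_mul' a b := by
    ext1 v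
    exact act_mul a b v

theorem toLE_apply (g : SU 3 F q) (v : Fin 3 → F) : toLE g v = act g v := rfl

theorem toLE_injective : Function.Injective (toLE (F := F) (q := q)) := by
  intro a b h
  apply ext_act
  intro v
  rw [← toLE_apply, h, toLE_apply]

/-- a `p`-subgroup normalised by two `p`-elements with different fixed isotropic lines is trivial -/
theorem eq_bot_of_normalised (hF : Fintype.card F = q ^ 2) {y y' : SU 3 F q} (hy : y ^ p = 1)
    (hy1 : y ≠ 1) (hy' : y' ^ p = 1) (hy1' : y' ≠ 1) {w w' : Fin 3 → F} (hw0 : w ≠ 0) (hw0' : w' ≠ 0)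
    (hw : hermForm 3 F q w w = 0) (hw' : hermForm 3 F q w' w' = 0) (h : act y w = w) (h' : act y' w' = w')
    (hne : ¬ ∃ d : F, w' = d • w) (O : Subgroup (SU 3 F q)) (hO : IsPGroup p O)
    (hn : ∀ o ∈ O, y⁻¹ * o * y ∈ O) (hn' : ∀ o ∈ O, y'⁻¹ * o * y' ∈ O) : O = ⊥ := by
  by_contra hne0
  have hyp : y ^ p ^ 1 = 1 := by rw [pow_one]; exact hy
  have hyp' : y' ^ p ^ 1 = 1 := by rw [pow_one]; exact hy'
  obtain ⟨w0, hw00, hww, hfix⟩ := exists_fix hF O hO
  obtain ⟨⟨o, ho⟩, ho1⟩ := (Subgroup.ne_bot_iff_exists_ne_one).1 hne0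
  have ho2 : o ≠ 1 := fun h1 => ho1 (Subtype.ext h1)
  obtain ⟨k, hk⟩ := hO ⟨o, ho⟩
  have hk' : o ^ p ^ k = 1 := congrArg Subtype.val hk
  have hofix : act o w0 = w0 := hfix _ ho
  have key : ∀ z : SU 3 F q, (∀ o ∈ O, z⁻¹ * o * z ∈ O) → ∃ d : F, act z w0 = d • w0 := by
    intro z hz
    have h1 : act o (act z w0) = act z w0 := by
      have h3 := hfix _ (hz o ho)
      have h4 := congrArg (act z) h3
      rw [← act_mul] at h4
      rw [← act_mul]
      have h5 : z * (z⁻¹ * o * z) = o * z := by group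
      rwa [h5] at h4
    have hz0 : act z w0 ≠ 0 := by
      intro h0
      apply hw00
      have := congrArg (act z⁻¹) h0
      rwa [act_inv_act, act_zero] at this
    exact unique_fix hF hk' ho2 hw00 hz0 hww (by rw [herm_act, hww]) (c := 1) (c' := 1)
      (by rw [one_smul, hofix]) (by rw [one_smul, h1])
  obtain ⟨d1, hd1⟩ := key y hn
  obtain ⟨d2, hd2⟩ := key y' hn'
  obtain ⟨a1, ha1⟩ := unique_fix hF hyp hy1 hw00 hw0 hww hw hd1 (c' := 1) (by rw [one_smul, h])
  obtain ⟨a2, ha2⟩ := unique_fix hF hyp' hy1' hw00 hw0' hww hw' hd2 (c' := 1) (by rw [one_smul, h'])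
  apply hne
  have ha10 : a1 ≠ 0 := by
    rintro rfl
    rw [zero_smul] at ha1
    exact hw0 ha1
  exact ⟨a2 * a1⁻¹, by rw [ha1, ha2, smul_smul, mul_assoc, inv_mul_cancel₀ ha10, mul_one]⟩

/-- the `p`-core -/
theorem pCore_bot {G : Type*} [Group G] {K : Subgroup G} [Finite K]
    (h : ∀ O : Subgroup G, O ≤ K → IsPGroup p O → (∀ z ∈ K, ∀ o ∈ O, z⁻¹ * o * z ∈ O) → O = ⊥) :
    pCore p K = ⊥ := by
  have hOp : IsPGroup p (pCore p K) := Cfsg.Agent.Lib.Cores.pCore_isPGroup p
  have hOn : (pCore p K).Normal := inferInstance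
  have h1 := h ((pCore p K).map K.subtype) (Subgroup.map_subtype_le _) (hOp.map _) (by
    rintro z hz _ ⟨o, ho, rfl⟩
    refine ⟨(⟨z, hz⟩ : K)⁻¹ * o * ⟨z, hz⟩, ?_, rfl⟩
    have := hOn.conj_mem _ ho (⟨z, hz⟩⁻¹ : K)
    rwa [inv_inv] at this)
  exact (Subgroup.map_eq_bot_iff_of_injective _ K.subtype_injective).1 h1

theorem nil_of_pow {V : Type*} [AddCommGroup V] [Module F V] [FiniteDimensional F V] {f : Module.End F V}
    (hf : f ^ p = 1) : (f - 1) ^ Module.finrank F V = 0 := by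
  have : CharP (Module.End F V) p ∨ Subsingleton V := by
    rcases subsingleton_or_nontrivial V with h | h
    · exact Or.inr h
    · exact Or.inl (charP_of_injective_algebraMap (algebraMap F (Module.End F V)).injective p)
  rcases this with h | h
  · have h1 : (f - 1) ^ p = 0 := by
      rw [sub_pow_char_of_commute p (Commute.one_right f), hf, one_pow, sub_self]
    have h2 := Module.End.ker_pow_le_ker_pow_finrank (f - 1) p
    rw [h1, LinearMap.ker_zero, top_le_iff, LinearMap.ker_eq_top] at h2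
    exact h2
  · ext v
    exact Subsingleton.elim _ _

/-- **Hall--Higman** -/
theorem not_solvable_pair (hF : Fintype.card F = q ^ 2) (hp5 : 5 ≤ p) {y y' : SU 3 F q} (hy : y ^ p = 1)
    (hy1 : y ≠ 1) (hy' : y' ^ p = 1) (hy1' : y' ≠ 1) {w w' : Fin 3 → F} (hw0 : w ≠ 0) (hw0' : w' ≠ 0)
    (hw : hermForm 3 F q w w = 0) (hw' : hermForm 3 F q w' w' = 0) (h : act y w = w) (h' : act y' w' = w')
    (hne : ¬ ∃ d : F, w' = d • w) :
    ¬ Group.IsSolvable ↥(Subgroup.closure ({y, y'} : Set (SU 3 F q))) := by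
  intro hsol
  obtain ⟨K, hK⟩ : ∃ K, K = Subgroup.closure ({y, y'} : Set (SU 3 F q)) := ⟨_, rfl⟩
  rw [← hK] at hsol
  have hyK : y ∈ K := by rw [hK]; exact Subgroup.subset_closure (by simp)
  have hyK' : y' ∈ K := by rw [hK]; exact Subgroup.subset_closure (by simp)
  -- Hall--Higman
  obtain ⟨H', hH'⟩ : ∃ H', H' = K.map (toLE (F := F) (q := q)) := ⟨_, rfl⟩
  have e : ↥K ≃* ↥H' := (K.equivMapOfInjective toLE toLE_injective).trans (MulEquiv.subgroupCongr hH'.symm)
  have hfinH : Finite ↥H' := Finite.of_equiv _ e.toEquiv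
  have hsol' : Group.IsSolvable ↥H' := Group.isSolvable_of_surjective (f := e.toMonoidHom) e.surjective
  have hxH : toLE y ∈ H' := by rw [hH']; exact ⟨y, hyK, rfl⟩
  have hxH' : toLE y' ∈ H' := by rw [hH']; exact ⟨y', hyK', rfl⟩
  have hcore' : pCore p ↥H' = ⊥ := by
    refine pCore_bot fun O hOH hO hn => ?_
    have h1 : O.comap (toLE (F := F) (q := q)) = ⊥ := by
      refine eq_bot_of_normalised hF hy hy1 hy' hy1' hw0 hw0' hw hw' h h' hne _
        (hO.comap_of_injective _ toLE_injective) (fun o ho => ?_) (fun o ho => ?_)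
      · have := hn _ hxH _ ho
        rwa [← map_inv, ← map_mul, ← map_mul] at this
      · have := hn _ hxH' _ ho
        rwa [← map_inv, ← map_mul, ← map_mul] at this
    rw [eq_bot_iff]
    intro o ho
    have h2 := hOH ho
    rw [hH'] at h2
    obtain ⟨a, -, rfl⟩ := h2
    have h3 : a ∈ O.comap (toLE (F := F) (q := q)) := ho
    rw [h1, Subgroup.mem_bot] at h3
    rw [h3, map_one]
    exact one_mem _
  have hx1 : toLE y ^ p = 1 := by rw [← map_pow, hy, map_one]
  have hxo : orderOf (toLE y) = p ^ 1 := by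
    rw [pow_one]
    refine orderOf_eq_prime hx1 fun h0 => hy1 (toLE_injective ?_)
    rw [h0, map_one]
  have hnil : ((toLE y : (Fin 3 → F) ≃ₗ[F] (Fin 3 → F)) : Module.End F (Fin 3 → F)) ^ p = 1 := by
    have h1 : ∀ m : ℕ, ((toLE y : (Fin 3 → F) ≃ₗ[F] (Fin 3 → F)) : Module.End F (Fin 3 → F)) ^ m =
        ((toLE (y ^ m) : (Fin 3 → F) ≃ₗ[F] (Fin 3 → F)) : Module.End F (Fin 3 → F)) := by
      intro m
      induction m with
      | zero =>
        rw [pow_zero, pow_zero, map_one]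
        rfl
      | succ m ih =>
        rw [pow_succ, ih, pow_succ, map_mul]
        rfl
    rw [h1, hy, map_one]
    rfl
  have h3 := nil_of_pow hnil
  rw [Module.finrank_fin_fun] at h3
  rcases Cfsg.Agent.S0633.bound H' (Cfsg.Agent.Lib.PSolvable.IsPSolvable_of_solvable p) hcore' (toLE y) hxH 1
    le_rfl hxo 3 h3 with h4 | ⟨n0, r, m, hn1, hn2, -, -, -, -, h4⟩
  · rw [pow_one] at h4
    omega
  · have : n0 = 1 := by omega
    subst this
    rw [Nat.sub_self, pow_zero, one_mul, pow_one] at h4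
    omega

/-- solvability modulo the centre -/
theorem solvable_of_pr {K : Subgroup (SU 3 F q)} (h : Group.IsSolvable ↥(K.map (pr 3 F q))) :
    Group.IsSolvable ↥K := by
  let φ : ↥K →* ↥(K.map (pr 3 F q)) := (pr 3 F q).subgroupMap K
  have hker : Group.IsSolvable ↥φ.ker := by
    refine Group.isSolvable_of_comm fun a b => ?_
    have h1 : ((a : ↥K) : SU 3 F q) ∈ Subgroup.center (SU 3 F q) := by
      have h2 : φ (a : ↥K) = 1 := a.2
      exact pr_eq_one_iff.1 (congrArg Subtype.val h2)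
    have h2 := Subgroup.mem_center_iff.1 h1 ((b : ↥K) : SU 3 F q)
    exact Subtype.ext (Subtype.ext h2.symm)
  exact Group.isSolvable_of_ker_le_range φ.ker.subtype φ (by rw [Subgroup.range_subtype])

/-- **Part (a), one inner automorphism.** -/
theorem apair_inner (hF : Fintype.card F = q ^ 2) (hp5 : 5 ≤ p) [IsSimpleGroup (PSU 3 F q)]
    (hna : ¬ IsMulCommutative (PSU 3 F q)) {x : MulAut (PSU 3 F q)} (hxp : x ^ p = 1)
    (hx1 : x ≠ 1) {y : PSU 3 F q} (hy : orderOf y = p) :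
    APair (MulAut.conj : PSU 3 F q →* MulAut (PSU 3 F q)).range x (MulAut.conj y) := by
  have hpp : p.Prime := hp.out
  have hodd : Odd p := hpp.odd_of_ne_two (by omega)
  have hq3 : 3 ≤ q := by
    have h1 := prime_dvd_q p hF
    have h2 := two_le hF
    have := Nat.le_of_dvd (by omega) h1
    omega
  obtain ⟨T, σ, hT⟩ := exists_rep hF le_rfl (by omega) x
  obtain ⟨e, he, heT⟩ := Cfsg.Agent.H106.MOwnU.exists_iso_ne hF le_rfl hT hodd hxp hx1
  -- a lift of `y`
  have hyp : y ^ p ^ 1 = 1 := by rw [pow_one, ← hy, pow_orderOf_eq_one]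
  obtain ⟨b, hb, l, hbl⟩ := exists_lift hF le_rfl hyp
  have hbp : b ^ p = 1 := by
    refine eq_of_pr_eq hF le_rfl (p := p) (k := l) (l := 0) ?_ (by simp) ?_
    · rw [← pow_mul, mul_comm, pow_mul, hbl, one_pow]
    · rw [map_pow, hb, map_one, ← hy, pow_orderOf_eq_one]
  have hb1 : b ≠ 1 := by
    rintro rfl
    rw [map_one] at hb
    rw [← hb, orderOf_one] at hy
    exact hpp.one_lt.ne hy
  obtain ⟨u, hu0, hu, hub⟩ := exists_fix hF (Subgroup.zpowers b) (by
    rintro ⟨_, i, rfl⟩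
    refine ⟨1, Subtype.ext ?_⟩
    change (b ^ i) ^ p ^ 1 = 1
    rw [pow_one, ← _root_.zpow_natCast, ← _root_.zpow_mul, mul_comm, _root_.zpow_mul, _root_.zpow_natCast, hbp,
      _root_.one_zpow])
  have hbu : act b u = u := hub b (Subgroup.mem_zpowers b)
  -- move `u` to `e`
  have he0 : e ≠ 0 := by
    rintro rfl
    rw [herm_zero_right hF] at heT
    exact heT rfl
  obtain ⟨u', hu', huu'⟩ := Cfsg.Agent.LieClassical.HermSimple.exists_partner hF hu0 hu
  obtain ⟨e', he', hee'⟩ := Cfsg.Agent.LieClassical.HermSimple.exists_partner hF he0 he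
  obtain ⟨a, -, hau, -⟩ := exists_map_hyp hF le_rfl le_rfl (mem_coordSub_top u) (mem_coordSub_top u')
    (mem_coordSub_top e) (mem_coordSub_top e') hu hu' huu' he he' hee'
  obtain ⟨y1, hy1⟩ : ∃ y1, y1 = a * b * a⁻¹ := ⟨_, rfl⟩
  have hy1p : y1 ^ p = 1 := by rw [hy1, conj_pow, hbp]; group
  have hy11 : y1 ≠ 1 := by
    intro h
    apply hb1
    rw [hy1] at h
    have : b = a⁻¹ * (a * b * a⁻¹) * a := by group
    rw [this, h]
    group
  have hy1e : act y1 e = e := by
    rw [hy1, act_mul, act_mul, ← hau, act_inv_act, hbu]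
  obtain ⟨y2, hy2, hy2T⟩ := hT.lift y1
  have hy2pow : ∀ m : ℕ, ∀ v, act (y2 ^ m) (T v) = T (act (y1 ^ m) v) := by
    intro m
    induction m with
    | zero => intro v; rw [pow_zero, pow_zero, act_one, act_one]
    | succ m ih => intro v; rw [pow_succ, pow_succ, act_mul, act_mul, hy2T, ih]
  have hy2p : y2 ^ p = 1 := by
    apply ext_act
    intro v
    obtain ⟨v, rfl⟩ := hT.sur v
    rw [hy2pow, hy1p, act_one, act_one]
  have hy21 : y2 ≠ 1 := by
    rintro rfl
    apply hy11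
    apply ext_act
    intro v
    apply hT.inj hF
    rw [← hy2T, act_one, act_one]
  have hy2e : act y2 (T e) = T e := by rw [hy2T, hy1e]
  have hTe : hermForm 3 F q (T e) (T e) = 0 := by rw [hT.herm, he, map_zero]
  have hne : ¬ ∃ d : F, T e = d • e := by
    rintro ⟨d, hd⟩
    rw [hd, herm_smul_left, he, mul_zero] at heT
    exact heT rfl
  have hTe0 : T e ≠ 0 := by
    intro h
    rw [h, herm_zero_left] at heT
    exact heT rfl
  have hns := not_solvable_pair hF hp5 hy1p hy11 hy2p hy21 he0 hTe0 he hTe hy1e hy2e hne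
  refine ⟨MulAut.conj (pr 3 F q a), ⟨_, rfl⟩, fun hsol => hns (solvable_of_pr ?_)⟩
  have h1 : MulAut.conj (pr 3 F q a) * MulAut.conj y * (MulAut.conj (pr 3 F q a))⁻¹ =
      MulAut.conj (pr 3 F q y1) := by
    rw [hy1, ← hb, map_mul (pr 3 F q), map_mul (pr 3 F q), map_inv (pr 3 F q), map_mul MulAut.conj,
      map_mul MulAut.conj, map_inv MulAut.conj]
  rw [h1] at hsol
  have h2 : x * MulAut.conj (pr 3 F q y1) * x⁻¹ = MulAut.conj (pr 3 F q y2) := by
    rw [← hy2]
    ext z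
    simp only [MulAut.mul_apply, MulAut.conj_apply, _root_.MulAut.inv_apply, _root_.map_mul, _root_.MulEquiv.apply_symm_apply, _root_.map_inv]
  have h3 : Subgroup.closure ({MulAut.conj (pr 3 F q y1), MulAut.conj (pr 3 F q y2)} :
      Set (MulAut (PSU 3 F q))) ≤ Subgroup.closure ({x, MulAut.conj (pr 3 F q y1)} : Set _) := by
    rw [Subgroup.closure_le]
    have hx : x ∈ Subgroup.closure ({x, MulAut.conj (pr 3 F q y1)} : Set (MulAut (PSU 3 F q))) :=
      Subgroup.subset_closure (by simp)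
    have hc : MulAut.conj (pr 3 F q y1) ∈
        Subgroup.closure ({x, MulAut.conj (pr 3 F q y1)} : Set (MulAut (PSU 3 F q))) :=
      Subgroup.subset_closure (by simp)
    rintro z (rfl | hz)
    · exact hc
    · rw [Set.mem_singleton_iff] at hz
      rw [hz, ← h2]
      exact mul_mem (mul_mem hx hc) (inv_mem hx)
  have hinj := Cfsg.Agent.H533.T5.conj_injective_of_simple (S := PSU 3 F q) hna
  have h4 := isSolvable_of_le h3 hsol
  have h5 : (Subgroup.closure ({pr 3 F q y1, pr 3 F q y2} : Set (PSU 3 F q))).map MulAut.conj =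
      Subgroup.closure ({MulAut.conj (pr 3 F q y1), MulAut.conj (pr 3 F q y2)} :
      Set (MulAut (PSU 3 F q))) := Cfsg.Agent.H533.T5.closure_pair_map _ _ _
  rw [← h5] at h4
  rw [Cfsg.Agent.H533.T5.closure_pair_map]
  exact Group.isSolvable_of_isSolvable_injective
    (f := ((Subgroup.closure ({pr 3 F q y1, pr 3 F q y2} : Set (PSU 3 F q))).equivMapOfInjective _
      hinj).toMonoidHom) (MulEquiv.injective _)

end Cfsg.Agent.H487.S5U3
end

-- part: H487/S5/PsuOwnB
section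
/-!
# `PSU₃(q)`: the field automorphisms of order `p ≥ 5` are conjugate up to powers (helper487, for S2274)
-/

set_option autoImplicit false
set_option linter.unusedSectionVars false
set_option linter.unusedVariables false

namespace Cfsg.Agent.H487.S5U3

open Cfsg Matrix
open Cfsg.Agent.LieClassical.HermBasic Cfsg.Agent.LieClassical.HermSiegel Cfsg.Agent.LieClassical.HermGen
open Cfsg.Agent.ClassicalGeometry.PSUAutBasic
open Cfsg.Agent.UGT.U2.FOne.PSU (Rep exists_rep)
open Cfsg.Agent.H957.T5V (Semi IsScal smulA smulA_apply)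
open Cfsg.Agent.H957.T5U (SI scale_semi exists_onb_fix li_orth exists_iso_ext)
open Cfsg.Agent.LieClassical (GUOrder.mul_map_eq_one_iff GUOrder.frob)

section num

variable {F : Type*} [Field F] [Finite F]

/-- elements modulo cubes -/
theorem exists_cube {p : ℕ} (hp : p.Prime) (hp5 : 5 ≤ p) {θ : F ≃+* F} (hθ : θ ^ p = 1) (δ : Fˣ) :
    ∃ a b : ℤ, δ = δ ^ a * (δ ^ b) ^ 3 ∧ θ ((δ ^ a : Fˣ) : F) = ((δ ^ a : Fˣ) : F) := by
  classical
  obtain ⟨r, hr⟩ := MonoidHom.map_cyclic (Units.map (θ : F →* F))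
  have hr' : ∀ x : Fˣ, θ (x : F) = ((x ^ r : Fˣ) : F) := fun x => by
    rw [← hr x]; rfl
  have hpow : ∀ (m : ℕ) (x : Fˣ), (θ ^ m) (x : F) = ((x ^ (r ^ m) : Fˣ) : F) := by
    intro m
    induction m with
    | zero => intro x; rw [pow_zero, pow_zero, _root_.zpow_one]; rfl
    | succ m ih =>
      intro x
      rw [pow_succ]
      change (θ ^ m) (θ (x : F)) = _
      rw [hr', ih, ← _root_.zpow_mul, pow_succ, mul_comm]
  have hone : ∀ x : Fˣ, x ^ (r ^ p) = x := by
    intro x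
    apply Units.ext
    rw [← hpow, hθ]
    rfl
  obtain ⟨M, hM⟩ : ∃ M, M = ∑ i ∈ Finset.range p, r ^ i := ⟨_, rfl⟩
  have hMr : M * (r - 1) = r ^ p - 1 := by rw [hM]; exact geom_sum_mul r p
  have hfix : ∀ x : Fˣ, θ ((x ^ M : Fˣ) : F) = ((x ^ M : Fˣ) : F) := by
    intro x
    rw [hr', ← _root_.zpow_mul]
    congr 1
    have h1 : M * r = M + (r ^ p - 1) := by linarith only [hMr]
    rw [h1, _root_.zpow_add, _root_.zpow_sub, _root_.zpow_one, hone]
    simp
  -- the order of `δ`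
  by_cases h3 : (3 : ℤ) ∣ M
  · -- then `δ` has order prime to `3`
    have h4 : ¬ 3 ∣ orderOf δ := by
      intro h5
      have h6 : (orderOf δ : ℤ) ∣ r ^ p - 1 := by
        rw [orderOf_dvd_iff_zpow_eq_one, _root_.zpow_sub, hone, _root_.zpow_one, mul_inv_cancel]
      have h7 : (3 : ℤ) ∣ r ^ p - 1 := dvd_trans (by exact_mod_cast h5) h6
      -- `r ≡ 1`
      have hodd : Odd p := hp.odd_of_ne_two (by omega)
      have h8 : (3 : ℤ) ∣ r - 1 := by
        obtain ⟨k, hk⟩ := hodd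
        have h9 : ((r : ZMod 3)) ^ p = 1 := by
          have := (ZMod.intCast_zmod_eq_zero_iff_dvd (r ^ p - 1) 3).2 h7
          push_cast at this
          exact sub_eq_zero.1 this
        have h10 : (r : ZMod 3) = 1 := by
          have h11 : ∀ z : ZMod 3, z ^ 3 = z := by decide
          have h12 : ∀ k : ℕ, ∀ z : ZMod 3, z ^ (2 * k + 1) = z := by
            intro k z
            induction k with
            | zero => rw [mul_zero, zero_add, pow_one]
            | succ k ih =>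
              rw [show 2 * (k + 1) + 1 = (2 * k + 1) + 2 by ring, pow_add, ih, ← pow_succ', h11]
          rw [← h12 k (r : ZMod 3), ← hk, h9]
        apply (ZMod.intCast_zmod_eq_zero_iff_dvd (r - 1) 3).1
        push_cast
        rw [h10, sub_self]
      -- `M ≡ p`
      have h13 : (M : ZMod 3) = p := by
        have h14 : (r : ZMod 3) = 1 := by
          have := (ZMod.intCast_zmod_eq_zero_iff_dvd (r - 1) 3).2 h8
          push_cast at this
          exact sub_eq_zero.1 this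
        rw [hM]
        push_cast
        rw [h14]
        simp
      have h15 : (M : ZMod 3) = 0 := (ZMod.intCast_zmod_eq_zero_iff_dvd M 3).2 h3
      rw [h15] at h13
      have h16 : 3 ∣ p := (ZMod.natCast_eq_zero_iff p 3).1 h13.symm
      have h17 := (Nat.prime_dvd_prime_iff_eq Nat.prime_three hp).1 h16
      omega
    have h5 : IsCoprime ((3 : ℕ) : ℤ) (orderOf δ : ℤ) :=
      Nat.isCoprime_iff_coprime.2 ((Nat.Prime.coprime_iff_not_dvd Nat.prime_three).2 h4)
    obtain ⟨u, v, huv⟩ := h5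
    refine ⟨0, u, ?_, ?_⟩
    · rw [_root_.zpow_zero, one_mul, ← _root_.zpow_natCast, ← _root_.zpow_mul]
      have h6 : u * ((3 : ℕ) : ℤ) = 1 - v * (orderOf δ : ℤ) := by linarith only [huv]
      rw [h6, _root_.zpow_sub, _root_.zpow_one, mul_comm v, _root_.zpow_mul, _root_.zpow_natCast, pow_orderOf_eq_one,
        _root_.one_zpow, inv_one, mul_one]
    · rw [_root_.zpow_zero, Units.val_one, map_one]
  · have h4 : IsCoprime M 3 := by
      rw [Int.isCoprime_iff_gcd_eq_one, Int.gcd_comm]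
      have h5 : ¬ 3 ∣ M.natAbs := by
        intro h6
        exact h3 (Int.natCast_dvd.2 h6)
      have := (Nat.Prime.coprime_iff_not_dvd Nat.prime_three).2 h5
      simpa [Int.gcd] using this
    obtain ⟨u, v, huv⟩ := h4
    refine ⟨M * u, v, ?_, ?_⟩
    · rw [← _root_.zpow_natCast, ← _root_.zpow_mul, ← _root_.zpow_add]
      have h6 : M * u + v * ((3 : ℕ) : ℤ) = 1 := by push_cast; linarith only [huv]
      rw [h6, _root_.zpow_one]
    · rw [mul_comm, _root_.zpow_mul]
      exact hfix _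

end num

section lin

variable {F : Type} [Field F] [Fintype F] {q p : ℕ}

/-- the determinant of an isometry -/
theorem det_iso (hF : Fintype.card F = q ^ 2) {M : Matrix (Fin 3) (Fin 3) F}
    (h : ∀ u v, hermForm 3 F q (M *ᵥ u) (M *ᵥ v) = hermForm 3 F q u v) : M.det * M.det ^ q = 1 := by
  have h1 := (Cfsg.Agent.LieClassical.GUOrder.mul_map_eq_one_iff hF M).1 h
  have h2 := congrArg Matrix.det h1
  rw [det_mul, det_transpose, det_one] at h2
  rw [← h2]
  congr 1
  exact ((Cfsg.Agent.LieClassical.GUOrder.frob hF).map_det M)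

/-- the determinant of a diagonalisable matrix -/
theorem det_diag {M : Matrix (Fin 3) (Fin 3) F} {b : Fin 3 → (Fin 3 → F)} (hb : LinearIndependent F b)
    {x : Fin 3 → F} (h : ∀ i, M *ᵥ b i = x i • b i) : M.det = ∏ i, x i := by
  obtain ⟨P, hP⟩ : ∃ P, P = (Matrix.of b)ᵀ := ⟨_, rfl⟩
  have h1 : M * P = P * Matrix.diagonal x := by
    ext i j
    rw [Matrix.mul_diagonal]
    have h2 := congrFun (h j) i
    rw [hP]
    rw [Pi.smul_apply, smul_eq_mul, mul_comm] at h2
    rw [Matrix.transpose_apply, Matrix.of_apply, ← h2]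
    rfl
  have h2 : P.det ≠ 0 := by
    rw [hP, det_transpose]
    have h3 : LinearIndependent F (fun i => (Matrix.of b) i) := hb
    have h4 := (Matrix.linearIndependent_rows_iff_isUnit).1 h3
    exact ((Matrix.isUnit_iff_isUnit_det _).1 h4).ne_zero
  have h3 := congrArg Matrix.det h1
  rw [det_mul, det_mul, det_diagonal, mul_comm] at h3
  exact mul_left_cancel₀ h2 h3

end lin

section rep

variable {F : Type} [Field F] [Fintype F] {q p : ℕ} {α β : MulAut (PSU 3 F q)} {T X : (Fin 3 → F) → (Fin 3 → F)}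
  {σ τ : F ≃+* F}

/-- proportional semi-isometries induce the same automorphism -/
theorem rep_eq (h : _root_.Cfsg.Agent.UGT.U2.FOne.PSU.Rep α X σ) (h' : _root_.Cfsg.Agent.UGT.U2.FOne.PSU.Rep β T τ) {η : F} (hη : η ≠ 0) (hX : ∀ v, X v = η • T v) : α = β := by
  ext x
  obtain ⟨g, rfl⟩ := pr_surjective x
  obtain ⟨g1, h1, h2⟩ := h.lift g
  obtain ⟨g2, h3, h4⟩ := h'.lift g
  rw [h1, h3]
  congr 1
  apply ext_act
  intro v
  obtain ⟨u, rfl⟩ := h'.sur v
  have h5 := h2 u
  rw [hX, hX, act_smul] at h5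
  rw [smul_right_injective _ hη h5, h4]

/-- an isometry of determinant `1` up to a scalar -/
theorem inner_of_mat (hF : Fintype.card F = q ^ 2) (h : _root_.Cfsg.Agent.UGT.U2.FOne.PSU.Rep α T (1 : F ≃+* F)) {M : Matrix (Fin 3) (Fin 3) F}
    (hM : ∀ u v, hermForm 3 F q (M *ᵥ u) (M *ᵥ v) = hermForm 3 F q u v) (hT : ∀ v, T v = M *ᵥ v) {c : F}
    (hc : c ≠ 0) (hcc : c * c ^ q = 1) (hdet : M.det = c ^ 3) : ∃ y, α = MulAut.conj y := by
  have hci : c⁻¹ * c⁻¹ ^ q = 1 := by rw [inv_pow, ← mul_inv, hcc, inv_one]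
  have hd : (c⁻¹ • M).det = 1 := by
    rw [det_smul, hdet, Fintype.card_fin, ← mul_pow, inv_mul_cancel₀ hc, one_pow]
  have hi : ∀ u v, hermForm 3 F q ((c⁻¹ • M) *ᵥ u) ((c⁻¹ • M) *ᵥ v) = hermForm 3 F q u v := by
    intro u v
    rw [smul_mulVec, smul_mulVec, herm_smul_left, herm_smul_right, hM, ← mul_assoc, hci, one_mul]
  obtain ⟨g, hg⟩ : ∃ g, g = mkSU (c⁻¹ • M) hd hi := ⟨_, rfl⟩
  refine ⟨pr 3 F q g, rep_eq h (Cfsg.Agent.H106.MOwnU.rep_conj g) hc fun v => ?_⟩
  rw [hT, hg]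
  change _ = c • ((c⁻¹ • M) *ᵥ v)
  rw [smul_mulVec, smul_smul, mul_inv_cancel₀ hc, one_smul]

/-- linear automorphisms of order `p` are inner -/
theorem inner_of_lin (hF : Fintype.card F = q ^ 2) (hp : p.Prime) (hp5 : 5 ≤ p) (h : _root_.Cfsg.Agent.UGT.U2.FOne.PSU.Rep α T (1 : F ≃+* F))
    (hα : α ^ p = 1) : ∃ y, α = MulAut.conj y := by
  obtain ⟨A, hA, -⟩ := h.exists_sg hF
  obtain ⟨M, hM⟩ : ∃ M, M = Cfsg.Agent.ClassicalGeometry.PSUAutCount.gm A := ⟨_, rfl⟩
  have hMT : ∀ v, T v = M *ᵥ v := fun v => by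
    rw [← hA v, hM]
    rfl
  have hiso : ∀ u v, hermForm 3 F q (M *ᵥ u) (M *ᵥ v) = hermForm 3 F q u v := fun u v => by
    rw [← hMT, ← hMT, h.herm]
    rfl
  have hdet := det_iso hF hiso
  have hit : ∀ m : ℕ, ∀ v, T^[m] v = (M ^ m) *ᵥ v := by
    intro m
    induction m with
    | zero => intro v; rw [pow_zero, one_mulVec]; rfl
    | succ m ih =>
      intro v
      rw [Function.iterate_succ_apply', ih, hMT, mulVec_mulVec, ← pow_succ']
  have h1 := h.pow p
  rw [hα] at h1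
  obtain ⟨-, l, hl, hl'⟩ := Rep.of_one hF le_rfl h1
  have hl0 : l ≠ 0 := by
    rintro rfl
    rw [zero_mul] at hl
    exact zero_ne_one hl
  have hMp : M ^ p = l • (1 : Matrix (Fin 3) (Fin 3) F) := by
    apply Matrix.ext_of_mulVec_single
    intro i
    rw [← hit, hl', smul_mulVec, one_mulVec]
  have hdp : M.det ^ p = l ^ 3 := by
    rw [← det_pow, hMp, det_smul, det_one, mul_one, Fintype.card_fin]
  have hd0 : M.det ≠ 0 := by
    intro h0
    rw [h0, zero_mul] at hdet
    exact zero_ne_one hdet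
  -- the cube root
  have hcop : IsCoprime ((p : ℕ) : ℤ) ((3 : ℕ) : ℤ) :=
    Nat.isCoprime_iff_coprime.2 ((Nat.coprime_primes hp Nat.prime_three).2 (by omega))
  obtain ⟨a, b, hab⟩ := hcop
  obtain ⟨c, hc⟩ : ∃ c, c = l ^ a * M.det ^ b := ⟨_, rfl⟩
  have hc0 : c ≠ 0 := by
    rw [hc]
    exact mul_ne_zero (zpow_ne_zero _ hl0) (zpow_ne_zero _ hd0)
  have hcc : c * c ^ q = 1 := by
    have e1 : c * c ^ q = (l * l ^ q) ^ a * (M.det * M.det ^ q) ^ b := by
      rw [hc, mul_pow, _root_.mul_zpow, _root_.mul_zpow, ← _root_.zpow_natCast (l ^ a), ← _root_.zpow_natCast (M.det ^ b),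
        ← _root_.zpow_natCast l, ← _root_.zpow_natCast M.det, ← _root_.zpow_mul, ← _root_.zpow_mul, ← _root_.zpow_mul,
        ← _root_.zpow_mul, mul_comm (q : ℤ) a, mul_comm (q : ℤ) b]
      ring
    rw [e1, hl, hdet, _root_.one_zpow, _root_.one_zpow, mul_one]
  refine inner_of_mat hF h hiso hMT hc0 hcc ?_
  have e2 : c ^ 3 = (l ^ 3) ^ a * (M.det ^ 3) ^ b := by
    rw [hc, mul_pow, ← _root_.zpow_natCast (l ^ a), ← _root_.zpow_natCast (M.det ^ b),
      ← _root_.zpow_natCast l, ← _root_.zpow_natCast M.det, ← _root_.zpow_mul, ← _root_.zpow_mul, ← _root_.zpow_mul,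
      ← _root_.zpow_mul, mul_comm ((3 : ℕ) : ℤ) a, mul_comm ((3 : ℕ) : ℤ) b]
  rw [e2, ← hdp, ← _root_.zpow_natCast M.det p, ← _root_.zpow_natCast M.det 3, ← _root_.zpow_mul, ← _root_.zpow_mul,
    ← zpow_add₀ hd0]
  have e3 : ((p : ℕ) : ℤ) * a + ((3 : ℕ) : ℤ) * b = 1 := by linarith only [hab]
  rw [e3, _root_.zpow_one]

/-- a basis of eigenvectors for a semi-isometry with nontrivial companion -/
theorem exists_basis (hF : Fintype.card F = q ^ 2) (hp : p.Prime) (hp5 : 5 ≤ p) (h : _root_.Cfsg.Agent.UGT.U2.FOne.PSU.Rep α T σ) (hσ : orderOf σ = p)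
    (hα : α ^ p = 1) : ∃ (b : Fin 3 → (Fin 3 → F)) (s : F), s ≠ 0 ∧
      (∀ i j, hermForm 3 F q (b i) (b j) = if i = j then 1 else 0) ∧ ∀ i, T (b i) = s • b i := by
  have hbij : Function.Bijective T := ⟨fun u v huv => h.inj hF huv, fun v => h.sur v⟩
  obtain ⟨C, hC⟩ : ∃ C : Equiv.Perm (Fin 3 → F), ∀ v, C v = T v := ⟨Equiv.ofBijective T hbij, fun v => rfl⟩
  have hSI : SI q σ C := ⟨⟨fun u v => by rw [hC, hC, hC, h.add], fun a v => by rw [hC, hC, h.smul]⟩,
    fun u v => by rw [hC, hC, h.herm]⟩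
  have hit : ∀ m : ℕ, ∀ v, (C ^ m) v = T^[m] v := by
    intro m
    induction m with
    | zero => intro v; rfl
    | succ m ih => intro v; rw [pow_succ', Equiv.Perm.mul_apply, ih, hC, Function.iterate_succ_apply']
  have h1 := h.pow p
  rw [hα] at h1
  obtain ⟨-, l, hl, hl'⟩ := Rep.of_one hF le_rfl h1
  obtain ⟨s, hs, hsp⟩ := scale_semi hF (by norm_num) hp (by omega) hσ hSI ⟨l, fun v => by rw [hit, hl']⟩
  obtain ⟨b, hb, hfix⟩ := exists_onb_fix hF hp (by omega) hσ (hSI.smulA hs) hsp 3 le_rfl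
  refine ⟨b, (s : F)⁻¹, inv_ne_zero s.ne_zero, hb, fun i => ?_⟩
  have h2 := hfix i
  rw [smulA_apply, hC] at h2
  rw [← h2, smul_smul, h2, inv_mul_cancel₀ s.ne_zero, one_smul]

/-- **Field automorphisms of order `p` with the same companion are conjugate.** -/
theorem conj_field (hF : Fintype.card F = q ^ 2) (hp : p.Prime) (hp5 : 5 ≤ p) (hα : _root_.Cfsg.Agent.UGT.U2.FOne.PSU.Rep α T σ) (hβ : _root_.Cfsg.Agent.UGT.U2.FOne.PSU.Rep β X σ)
    (hσ : orderOf σ = p) (hαp : α ^ p = 1) (hβp : β ^ p = 1) :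
    ∃ s ∈ (MulAut.conj : PSU 3 F q →* MulAut (PSU 3 F q)).range, s * β * s⁻¹ = α := by
  obtain ⟨b, s, hs, hb, hbT⟩ := exists_basis hF hp hp5 hα hσ hαp
  obtain ⟨b', s', hs', hb', hbX⟩ := exists_basis hF hp hp5 hβ hσ hβp
  have hli := li_orth hF hb
  have hli' := li_orth hF hb'
  obtain ⟨M, hM, hMb⟩ := exists_iso_ext hF b' b hli' hli (fun i j => by rw [hb, hb'])
  have hdet := det_iso hF hM
  have hd0 : M.det ≠ 0 := by
    intro h0
    rw [h0, zero_mul] at hdet
    exact zero_ne_one hdet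
  obtain ⟨δ, hδ⟩ : ∃ δ : Fˣ, (δ : F) = M.det⁻¹ := ⟨Units.mk0 _ (inv_ne_zero hd0), rfl⟩
  have hσp : σ ^ p = 1 := by rw [← hσ, pow_orderOf_eq_one]
  obtain ⟨a, e, hae, hfix⟩ := exists_cube hp hp5 hσp δ
  obtain ⟨κ, hκ⟩ : ∃ κ, κ = ((δ ^ a : Fˣ) : F) := ⟨_, rfl⟩
  obtain ⟨c, hc⟩ : ∃ c, c = ((δ ^ e : Fˣ) : F) := ⟨_, rfl⟩
  rw [← hκ] at hfix
  have hκc : κ * c ^ 3 = M.det⁻¹ := by
    rw [hκ, hc, ← hδ]
    conv_rhs => rw [hae]
    push_cast
    ring
  have hδq : (δ : Fˣ) ^ (q + 1) = 1 := by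
    apply Units.ext
    rw [Units.val_pow_eq_pow_val, hδ, Units.val_one, inv_pow, pow_succ', hdet, inv_one]
  have hnorm : ∀ i : ℤ, ((δ ^ i : Fˣ) : F) * ((δ ^ i : Fˣ) : F) ^ q = 1 := by
    intro i
    rw [← pow_succ', ← Units.val_pow_eq_pow_val, ← _root_.zpow_natCast, ← _root_.zpow_mul, mul_comm, _root_.zpow_mul,
      _root_.zpow_natCast, hδq, _root_.one_zpow, Units.val_one]
  have hκ1 : κ * κ ^ q = 1 := by rw [hκ]; exact hnorm a
  have hc1 : c * c ^ q = 1 := by rw [hc]; exact hnorm e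
  have hκ0 : κ ≠ 0 := by rw [hκ]; exact Units.ne_zero _
  have hc0 : c ≠ 0 := by rw [hc]; exact Units.ne_zero _
  -- the factors
  obtain ⟨k, hk⟩ : ∃ k : Fin 3 → F, k = ![1, 1, κ] := ⟨_, rfl⟩
  have hk1 : ∀ i, k i * k i ^ q = 1 := by
    intro i
    rw [hk]
    fin_cases i
    · simp
    · simp
    · exact hκ1
  have hk0 : ∀ i, k i ≠ 0 := by
    intro i h0
    have := hk1 i
    rw [h0, zero_mul] at this
    exact zero_ne_one this
  have hkσ : ∀ i, σ (k i) = k i := by
    intro i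
    rw [hk]
    fin_cases i
    · simp
    · simp
    · exact hfix
  have hck1 : ∀ i, (c * k i) * (c * k i) ^ q = 1 := by
    intro i
    rw [mul_pow]
    calc _ = (c * c ^ q) * (k i * k i ^ q) := by ring
      _ = 1 := by rw [hc1, hk1, mul_one]
  have hck0 : ∀ i, c * k i ≠ 0 := fun i => mul_ne_zero hc0 (hk0 i)
  have hli2 : LinearIndependent F (fun i => (c * k i) • b i) := by
    rw [Fintype.linearIndependent_iff] at hli ⊢
    intro g hg i
    have h1 := hli (fun i => g i * (c * k i)) (by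
      rw [← hg]
      exact Finset.sum_congr rfl fun i _ => by rw [smul_smul]) i
    exact (mul_eq_zero.1 h1).resolve_right (hck0 i)
  obtain ⟨N, hN, hNb⟩ := exists_iso_ext hF b (fun i => (c * k i) • b i) hli hli2 (fun i j => by
    rw [herm_smul_left, herm_smul_right, hb]
    by_cases hij : i = j
    · subst hij
      rw [if_pos rfl, mul_one, hck1]
    · rw [if_neg hij, mul_zero, mul_zero])
  have hNdet : N.det = κ * c ^ 3 := by
    rw [det_diag hli hNb, Fin.prod_univ_three, hk]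
    simp
    ring
  have hNM : ∀ u v, hermForm 3 F q ((N * M) *ᵥ u) ((N * M) *ᵥ v) = hermForm 3 F q u v := by
    intro u v
    rw [← mulVec_mulVec, ← mulVec_mulVec, hN, hM]
  obtain ⟨g, hg⟩ : ∃ g : SU 3 F q, ∀ v, act g v = (N * M) *ᵥ v := by
    refine ⟨mkSU (N * M) ?_ hNM, fun v => rfl⟩
    rw [det_mul, hNdet, hκc, inv_mul_cancel₀ hd0]
  have hgb : ∀ i, act g (b' i) = (c * k i) • b i := by
    intro i
    rw [hg, ← mulVec_mulVec, hMb, hNb]
  have hgi : ∀ i, act g⁻¹ (b i) = (c * k i)⁻¹ • b' i := by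
    intro i
    have h1 := congrArg (act g⁻¹) (hgb i)
    rw [act_inv_act, act_smul] at h1
    rw [h1, smul_smul, inv_mul_cancel₀ (hck0 i), one_smul]
  -- the conjugate
  refine ⟨MulAut.conj (pr 3 F q g), ⟨_, rfl⟩, ?_⟩
  have hR := ((Cfsg.Agent.H106.MOwnU.rep_conj g).mul hβ).mul (Cfsg.Agent.H106.MOwnU.rep_conj g⁻¹)
  rw [map_inv, map_inv, one_mul, mul_one] at hR
  obtain ⟨η, hη⟩ : ∃ η, η = σ c⁻¹ * s' * c * s⁻¹ := ⟨_, rfl⟩
  have hη0 : η ≠ 0 := by
    rw [hη]
    exact mul_ne_zero (mul_ne_zero (mul_ne_zero (by rw [Ne, map_eq_zero]; exact inv_ne_zero hc0) hs') hc0)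
      (inv_ne_zero hs)
  refine rep_eq hR hα hη0 fun v => ?_
  -- check on the basis
  have hbas : ∀ i, act g (X (act g⁻¹ (b i))) = η • T (b i) := by
    intro i
    rw [hgi, hβ.smul, hbX, act_smul, act_smul, hgb, hbT, smul_smul, smul_smul, smul_smul, hη, map_inv₀, map_mul,
      hkσ, map_inv₀]
    congr 1
    have h1 := hk0 i
    have h2 : σ c ≠ 0 := by rw [Ne, map_eq_zero]; exact hc0
    field_simp
  let B := basisOfLinearIndependentOfCardEqFinrank hli (by simp)
  have hB : ∀ i, B i = b i := fun i => by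
    simp [B]
  rw [← B.sum_repr v]
  have hsum1 : ∀ s : Finset (Fin 3), ∀ f : Fin 3 → (Fin 3 → F),
      act g (X (act g⁻¹ (∑ i ∈ s, f i))) = ∑ i ∈ s, act g (X (act g⁻¹ (f i))) := by
    intro s f
    induction s using Finset.cons_induction with
    | empty =>
      rw [Finset.sum_empty, Finset.sum_empty, act_zero, hβ.zero, act_zero]
    | cons i s his ih => rw [Finset.sum_cons, Finset.sum_cons, act_add, hβ.add, act_add, ih]
  have hsum2 : ∀ s : Finset (Fin 3), ∀ f : Fin 3 → (Fin 3 → F),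
      T (∑ i ∈ s, f i) = ∑ i ∈ s, T (f i) := by
    intro s f
    induction s using Finset.cons_induction with
    | empty => rw [Finset.sum_empty, Finset.sum_empty, hα.zero]
    | cons i s his ih => rw [Finset.sum_cons, Finset.sum_cons, hα.add, ih]
  rw [hsum1, hsum2, Finset.smul_sum]
  refine Finset.sum_congr rfl fun i _ => ?_
  rw [hB, act_smul, hβ.smul, act_smul, hbas, hα.smul, smul_comm]

end rep

end Cfsg.Agent.H487.S5U3
end

-- part: H487/S5/PsuOwn
section
/-!
# The strong row of `PSU₃(q)`, `p ∣ q`, `p ≥ 5` (helper487, for S2274)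
-/

set_option autoImplicit false

universe u

namespace Cfsg.Agent.H487.S5U3

open Cfsg
open Cfsg.Agent.H533.T5 Cfsg.Agent.H957.T5M Cfsg.Agent.H106.MB Cfsg.Agent.H106.MT
open Cfsg.Agent.H132.S5
open Cfsg.Agent.UGT.U2.FOne.PSU (Rep exists_rep)

section PSU

variable {F : Type} [Field F] [Fintype F] {q p : ℕ} [hp : Fact p.Prime] [CharP F p]

/-- outer automorphisms of order `p` are conjugate up to powers -/
theorem conj_outer (hF : Fintype.card F = q ^ 2) (hp5 : 5 ≤ p) {c d : MulAut (PSU 3 F q)} (hc : orderOf c = p)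
    (hd : orderOf d = p) (hco : ¬ ∃ g, c = MulAut.conj g) (hdo : ¬ ∃ g, d = MulAut.conj g) :
    ∃ s ∈ (MulAut.conj : PSU 3 F q →* MulAut (PSU 3 F q)).range, ∃ j : ℕ, (s * d * s⁻¹) ^ j = c := by
  have hpp : p.Prime := hp.out
  have hq3 : 3 ≤ q := by
    have h1 := Cfsg.Agent.ClassicalGeometry.PSUAutSylow.prime_dvd_q p hF
    have h2 := Cfsg.Agent.LieClassical.HermBasic.two_le hF
    have := Nat.le_of_dvd (by omega) h1
    omega
  have hcp : c ^ p = 1 := by rw [← hc, pow_orderOf_eq_one]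
  have hdp : d ^ p = 1 := by rw [← hd, pow_orderOf_eq_one]
  obtain ⟨T, σ, hT⟩ := exists_rep hF le_rfl (by omega) c
  obtain ⟨X, τ, hX⟩ := exists_rep hF le_rfl (by omega) d
  have hord : ∀ {x : MulAut (PSU 3 F q)} {Y : (Fin 3 → F) → (Fin 3 → F)} {ρ : F ≃+* F}, _root_.Cfsg.Agent.UGT.U2.FOne.PSU.Rep x Y ρ → x ^ p = 1 →
      (¬ ∃ g, x = MulAut.conj g) → orderOf ρ = p := by
    intro x Y ρ h hx hxo
    refine orderOf_eq_prime ?_ ?_
    · have h1 := h.pow p
      rw [hx] at h1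
      exact (Rep.of_one hF le_rfl h1).1
    · rintro rfl
      exact hxo (inner_of_lin hF hpp hp5 h hx)
  have hσ := hord hT hcp hco
  have hτ := hord hX hdp hdo
  obtain ⟨j, hj⟩ := Cfsg.Agent.H957.T5Pairs.exists_pow_inv hpp hσ hτ
  have hm : τ ^ (j * (p - 1)) = σ := by
    rw [pow_mul, hj, inv_pow, inv_eq_iff_mul_eq_one, ← pow_succ]
    have : p - 1 + 1 = p := by have := hpp.one_lt; (clear * - hp5; omega)
    rw [this, ← hσ, pow_orderOf_eq_one]
  have hX' := hX.pow (j * (p - 1))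
  rw [hm] at hX'
  have hdm : (d ^ (j * (p - 1))) ^ p = 1 := by rw [← pow_mul, mul_comm, pow_mul, hdp, one_pow]
  obtain ⟨s, hs, h⟩ := conj_field hF hpp hp5 hT hX' hσ hcp hdm
  exact ⟨s, hs, j * (p - 1), by rw [conj_pow, h]⟩

end PSU

variable {F : Type} [Field F] [Fintype F] {q p : ℕ}

/-- **The strong row of `PSU₃(q)` in own characteristic.** -/
theorem srow_psu3_own (hp : p.Prime) (hp5 : 5 ≤ p) [CharP F p] (hF : Fintype.card F = q ^ 2)
    {S : Type u} [Group S] [Finite S] [IsSimpleGroup S] (hna : ¬ IsMulCommutative S) (hrs : RSHyp.{u} p)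
    (e : S ≃* PSU 3 F q) : SRow p S := by
  have : Fact p.Prime := ⟨hp⟩
  have hs' : IsSimpleGroup (PSU 3 F q) := e.symm.isSimpleGroup
  have hna' : ¬ IsMulCommutative (PSU 3 F q) := by
    intro h
    apply hna
    refine ⟨⟨fun a b => e.injective ?_⟩⟩
    rw [map_mul, map_mul]
    exact h.is_comm.comm _ _
  intro c d hc hd
  obtain ⟨φ, hφ⟩ : ∃ φ : MulAut S ≃* MulAut (PSU 3 F q), φ = MulAut.congr e := ⟨_, rfl⟩
  have hφc : ∀ (x : MulAut S) (y : S), φ x (e y) = e (x y) := fun x y => by rw [hφ]; simp [MulAut.congr]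
  have hφi : ∀ g : S, φ (MulAut.conj g) = MulAut.conj (e g) := by
    intro g
    ext y
    obtain ⟨y, rfl⟩ := e.surjective y
    rw [hφc, MulAut.conj_apply, MulAut.conj_apply, map_mul, map_mul, map_inv]
  have hT : (MulAut.conj : PSU 3 F q →* MulAut (PSU 3 F q)).range ≤
      (MulAut.conj : S →* MulAut S).range.map φ.toMonoidHom := by
    rintro _ ⟨g, rfl⟩
    obtain ⟨g, rfl⟩ := e.surjective g
    exact ⟨MulAut.conj g, ⟨g, rfl⟩, hφi g⟩
  have hc' : orderOf (φ c) = p := by rw [φ.orderOf_eq, hc]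
  have hd' : orderOf (φ d) = p := by rw [φ.orderOf_eq, hd]
  have hcp : φ c ^ p = 1 := by rw [← hc', pow_orderOf_eq_one]
  have hdp : φ d ^ p = 1 := by rw [← hd', pow_orderOf_eq_one]
  have hne1 : ∀ {G : Type u} [Group G] {x : G}, orderOf x = p → x ≠ 1 := by
    rintro G _ x hx rfl
    rw [orderOf_one] at hx
    exact hp.one_lt.ne hx
  have hc1 : φ c ≠ 1 := by
    intro h
    rw [h, orderOf_one] at hc'
    exact hp.one_lt.ne hc'
  have hd1 : φ d ≠ 1 := by
    intro h
    rw [h, orderOf_one] at hd'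
    exact hp.one_lt.ne hd'
  refine SPair.mk' hp ?_ (BPair.of_hom φ.toMonoidHom hT (Cfsg.Agent.H106.MOwnU.bpair hF le_rfl hp5 hc' hd'))
  by_cases hdi : ∃ g, φ d = MulAut.conj g
  · obtain ⟨y, hy⟩ := hdi
    refine APair.of_hom φ.toMonoidHom hT ?_
    change APair _ (φ c) (φ d)
    rw [hy]
    refine apair_inner hF hp5 hna' hcp hc1 ?_
    rw [← orderOf_injective _ (conj_injective_of_simple (S := PSU 3 F q) hna') y, ← hy, hd']
  · by_cases hci : ∃ g, φ c = MulAut.conj g
    · obtain ⟨x, hx⟩ := hci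
      refine APair.of_hom φ.toMonoidHom hT ?_
      change APair _ (φ c) (φ d)
      rw [hx]
      refine (apair_inner hF hp5 hna' hdp hd1 ?_).symm
      rw [← orderOf_injective _ (conj_injective_of_simple (S := PSU 3 F q) hna') x, ← hx, hc']
    · obtain ⟨s, hs, j, hj⟩ := conj_outer hF hp5 hc' hd' hci hdi
      obtain ⟨g, rfl⟩ := hs
      obtain ⟨g, rfl⟩ := e.surjective g
      have hI := conj_range_normal (S := S)
      refine APair.of_aligned (R := (MulAut.conj : S →* MulAut S).range) hrs le_rfl hc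
        (fun r hr => hI.conj_mem _ hr c) (s := MulAut.conj g) ⟨g, rfl⟩ j (h := 1) (Commute.one_right _)
        (fun r _ => Commute.one_right _) ?_ (not_solvable_inn hna (hne1 hc))
      rw [mul_one]
      apply φ.injective
      rw [zpow_natCast, map_pow, map_mul, map_mul, map_inv, hφi]
      exact hj

end Cfsg.Agent.H487.S5U3
end
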